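import Cfsg.Agent.H696.LB.FiveOf
import Cfsg.Agent.H756.LB.Word
import Cfsg.Agent.H261.LB.Const

/-!
# S4879, box (H): `p = 5`, `|P| = 25`, one class of `5`-elements: `5 ≤ l(B₀)` (helper696)
-/

set_option autoImplicit false
set_option linter.unusedSectionVars false

open Cfsg IsLocalRing

namespace Cfsg.Agent.H696.LB

open Cfsg.Agent.Characters.Core Cfsg.Agent.Blocks Cfsg.Agent.Blocks.Basic Cfsg.Agent.Blocks.Local
open Cfsg.Agent.H657 Cfsg.Agent.H634.OneP

universe u

variable {G : Type u} [Group G] [Finite G]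

instance fact_five : Fact (Nat.Prime 5) := ⟨by norm_num⟩

/-- the members of the principal block of `C_G(x)` are `N_G(⟨x⟩)`-invariant -/
theorem triv_five {M : Ideal AlgInt} (hM : IsPModular 5 M) (P : Sylow 5 G) (hP : Nat.card P = 25)
    (hel : ∀ x ∈ (P : Subgroup G), x ^ 5 = 1) {x : G} (hx : x ∈ (P : Subgroup G)) (hx1 : x ≠ 1) :
    ∀ ψ ∈ principalBlock M (Subgroup.centralizer ({x} : Set G)),
      ∀ n ∈ Subgroup.normalizer ((Subgroup.zpowers x : Subgroup G) : Set G),
      ∀ s s' : Subgroup.centralizer ({x} : Set G), ¬ 5 ∣ orderOf s → (s' : G) = n * s * n⁻¹ →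
        (ψ : Subgroup.centralizer ({x} : Set G) → ℂ) s' =
          (ψ : Subgroup.centralizer ({x} : Set G) → ℂ) s := by
  intro ψ hψ n hn s s' hs hss
  have hP' : Nat.card P = 5 ^ 2 := by rw [hP]; norm_num
  have hr := H963.OneP.RankEq.rank_eq hM (by norm_num) P hP' hel hx hx1
  set e₀ := (Subgroup.centralizer ((P : Subgroup G) : Set G)).relIndex
    (Subgroup.normalizer ((P : Subgroup G) : Set G) ⊓ Subgroup.centralizer ({x} : Set G)) with he
  have he0 : e₀ ≠ 0 := by
    rw [he]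
    exact Subgroup.index_ne_zero_of_finite
  rcases Nat.lt_or_ge e₀ 2 with h2 | h2
  · have h1 : e₀ = 1 := by omega
    rw [h1] at hr
    have hs' : ¬ 5 ∣ orderOf s' := by
      have h3 : orderOf s' = orderOf s := by
        rw [← Subgroup.orderOf_coe, ← Subgroup.orderOf_coe s, hss]
        exact orderOf_injective (MulAut.conj n).toMonoidHom (MulAut.conj n).injective _
      rwa [h3]
    rw [const_of_rank_one hM hr hψ hs', const_of_rank_one hM hr hψ hs]
  · exact H426.OneP.triv_of normalTriv hM (by norm_num) P hP' hel hx hx1 (by rw [← he]; omega) hψ hn s s' hs hss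

/-- **`p = 5`, `|P| = 25`.** -/
theorem five_le {M : Ideal AlgInt} (hM : IsPModular 5 M) (P : Sylow 5 G) (hP : Nat.card P = 25)
    (hconj : ∀ x y : G, x ≠ 1 → y ≠ 1 → (∃ k : ℕ, orderOf x = 5 ^ k) → (∃ k : ℕ, orderOf y = 5 ^ k) → IsConj x y) :
    5 ≤ blockRank 5 (principalBlock M G) := by
  classical
  have := finite_irr (G := G)
  have := Fintype.ofFinite (IrrCharacter G)
  have hP' : Nat.card P = 5 ^ 2 := by rw [hP]; norm_num
  obtain ⟨⟨x, hx, hxo⟩, hel⟩ := hel_of P (by rw [hP]; norm_num) hconj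
  have hx1 : x ≠ 1 := by
    rintro rfl
    rw [orderOf_one] at hxo
    omega
  have hxk : ∃ k : ℕ, orderOf x = 5 ^ k := ⟨1, by rw [hxo, pow_one]⟩
  obtain ⟨V, hV⟩ := exists_above hM
  have hch : CharP (ResidueField V) 5 := hV.charP hM
  have htriv := triv_five hM P hP hel hx hx1
  obtain ⟨w, hw0, hw1, hwc, hwd, hwr⟩ := Cfsg.Agent.H756.LB.exists_word hM hV hxk hx1
    (fun ψ hψ s s' hs hc => H417.OneP.stable hM hV P hP' hxo hψ (htriv ψ hψ) s s' hs hc) _ le_rfl
  have hcard := card_eq_of_one hM hconj hx1 hxk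
  -- the multiples of the word
  have key : ∀ t : ℤ, 0 < t → t < 3 → 5 * t < ∑ χ : IrrCharacter G, r5 (t * w χ) ^ 2 := by
    intro t ht0 ht3
    have hr5 : ∀ z : ℤ, (5 : ℤ) ∣ r5 z - z := fun z => by unfold r5; omega
    have hv0 : ∀ χ, χ ∉ principalBlock M G → r5 (t * w χ) = 0 := by
      intro χ hχ
      rw [hw0 χ hχ, mul_zero]
      rfl
    have hcast : ∀ z : ℤ, ((r5 z : ℤ) : ResidueField V) = (z : ResidueField V) := by
      intro z
      rw [← sub_eq_zero, ← Int.cast_sub, CharP.intCast_eq_zero_iff (ResidueField V) 5]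
      exact_mod_cast hr5 z
    have hreg : ∀ g : G, ¬ 5 ∣ orderOf g →
        ∑ χ : IrrCharacter G, ((r5 (t * w χ) : ℤ) : ResidueField V) * rd V (χ : G → ℂ) g = 0 := by
      intro g hg
      have h1 := congrArg (fun z => (t : ResidueField V) * z) (hwr g hg)
      simp only [mul_zero, Finset.mul_sum] at h1
      rw [← h1]
      refine Finset.sum_congr rfl fun χ _ => ?_
      rw [hcast, Int.cast_mul, mul_assoc]
    have hloc := local_all hM hV hconj hxo htriv (fun χ => r5 (t * w χ)) hv0 hreg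
    have hone : r5 (t * w ⟨fun _ => 1, isIrrCharacter_one⟩) = t := by
      rw [hw1, mul_one]
      unfold r5
      omega
    have h1 := Cfsg.Agent.H193.LB.le_sq hM (fun χ => r5 (t * w χ)) (by exact_mod_cast hloc)
    simp only [hone] at h1
    rw [abs_of_pos ht0] at h1
    rcases lt_or_eq_of_le h1 with h2 | h2
    · exact_mod_cast h2
    · exfalso
      have h3 := Cfsg.Agent.H193.LB.vals_of_eq hM (fun χ => r5 (t * w χ)) (by exact_mod_cast hloc)
        (by simp only [hone]; exact h2)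
      refine Cfsg.Agent.H261.LB.false_of_vals P hP' hconj (fun χ => r5 (t * w χ)) ?_ h3
      simp only [hone]
      intro h4
      push_cast at h4
      omega
  have hdvd : ∀ t : ℤ, (5 : ℤ) ∣ ∑ χ : IrrCharacter G, r5 (t * w χ) ^ 2 := by
    intro t
    have h1 : (5 : ℤ) ∣ t ^ 2 * ∑ χ : IrrCharacter G, w χ ^ 2 := Dvd.dvd.mul_left (by exact_mod_cast hwd) _
    have h2 : (5 : ℤ) ∣ ∑ χ : IrrCharacter G, (r5 (t * w χ) ^ 2 - (t * w χ) ^ 2) := by
      refine Finset.dvd_sum fun χ _ => ?_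
      have h3 : (5 : ℤ) ∣ r5 (t * w χ) - t * w χ := by unfold r5; omega
      have h4 : r5 (t * w χ) ^ 2 - (t * w χ) ^ 2 = (r5 (t * w χ) - t * w χ) * (r5 (t * w χ) + t * w χ) := by ring
      rw [h4]
      exact Dvd.dvd.mul_right h3 _
    rw [Finset.sum_sub_distrib] at h2
    have h3 : ∑ χ : IrrCharacter G, (t * w χ) ^ 2 = t ^ 2 * ∑ χ : IrrCharacter G, w χ ^ 2 := by
      rw [Finset.mul_sum]
      exact Finset.sum_congr rfl fun χ _ => by ring
    rw [h3] at h2
    have h4 := dvd_add h2 h1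
    rwa [sub_add_cancel] at h4
  have k1 := key 1 (by norm_num) (by norm_num)
  have k2 := key 2 (by norm_num) (by norm_num)
  have d1 := hdvd 1
  have d2 := hdvd 2
  simp only [one_mul] at k1 d1
  have hfin := count_end w ⟨fun _ => 1, isIrrCharacter_one⟩ hw1 (by omega) (by omega)
  have hwc' : Nat.card {χ : IrrCharacter G // χ ≠ ⟨fun _ => 1, isIrrCharacter_one⟩ ∧ ¬ (5 : ℤ) ∣ w χ} +
      blockRank 5 (principalBlock M (Subgroup.centralizer ({x} : Set G))) ≤ Nat.card (principalBlock M G) := by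
    exact_mod_cast hwc
  omega

end Cfsg.Agent.H696.LB
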